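import Cfsg.Agent.H171.RM.Count
import Cfsg.Agent.H555.RV.Crit
import Cfsg.Agent.H904.McLCent
import Cfsg.Agent.H438.Fpr.HNA
import Cfsg.Agent.H147.Fpr.Suz

/-!
# S3849, piece P11: the pairs `{s, t}` with `|S|_t = t` for `McL`, `Suz`, `HN` (helper180)
-/

set_option autoImplicit false

namespace Cfsg.Agent.H180.RM

open Subgroup Cfsg Cfsg.Agent.H571.DExt Cfsg.Agent.H171.RM Cfsg.Agent.H555.RV

universe u

/-- a subgroup of order `t` -/
theorem exists_card {S : Type u} [Group S] [Finite S] {N t : ℕ} (ht : t.Prime) (hS : Nat.card S = N) (hd : N % t = 0) :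
    ∃ P : Subgroup S, Nat.card P = t := by
  have := Fact.mk ht
  obtain ⟨x, hx⟩ := exists_prime_orderOf_dvd_card' (G := S) t (by rw [hS]; exact Nat.dvd_of_mod_eq_zero hd)
  exact ⟨zpowers x, by rw [Nat.card_zpowers, hx]⟩

/-- `|S|_t = t`, `|N(P)| = M` for all `P` of order `t` -/
theorem nd_all {S : Type u} [Group S] [Finite S] {N M s t a b : ℕ} (hs : s.Prime) (ht : t.Prime) (hst : t ≠ s)
    (hS : Nat.card S = N) (hd : N % t = 0)
    (hN : ∀ P : Subgroup S, Nat.card P = t → Nat.card (normalizer (P : Set S)) = M) (h : chk N M t s t a b = true) :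
    ¬ Dom ({s, t} : Set ℕ) S := by
  obtain ⟨P, hP⟩ := exists_card ht hS hd
  exact nd_norm hs ht hst hS hP (hN P hP) h

/-! ### `McL` -/

theorem no_mcl_3_7 {S : Type u} [Group S] [Finite S] [IsSimpleGroup S] (h : Spor.IsoMcL S) : ¬ Dom ({3, 7} : Set ℕ) S :=
  nd_all (a := 6) (b := 1) (M := 42) (by norm_num) (by norm_num) (by norm_num) (H904.McLCent.card_L h) (by norm_num)
    (fun P hP => (H904.McLCent.seven h P hP).2) (by decide +kernel)

theorem no_mcl_3_11 {S : Type u} [Group S] [Finite S] [IsSimpleGroup S] (h : Spor.IsoMcL S) : ¬ Dom ({3, 11} : Set ℕ) S :=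
  nd_all (a := 6) (b := 0) (M := 55) (by norm_num) (by norm_num) (by norm_num) (H904.McLCent.card_L h) (by norm_num)
    (fun P hP => (H904.McLCent.eleven h P hP).2) (by decide +kernel)

/-! ### `HN` -/

open Cfsg.Agent.H438.Fpr.HN in
theorem no_hn_3_7 {S : Type u} [Group S] [Finite S] [IsSimpleGroup S] (h : Spor.IsoHN S) : ¬ Dom ({3, 7} : Set ℕ) S := by
  obtain ⟨e⟩ := h
  exact fun hD => nd_all (N := 273030912000000) (s := 3) (t := 7) (a := 6) (b := 2) (M := 2520) (by norm_num) (by norm_num) (by norm_num)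
    card (by norm_num) (fun P hP => (cn7 hP).2) (by decide +kernel) (dom_equiv e hD)

open Cfsg.Agent.H438.Fpr.HN in
theorem no_hn_5_7 {S : Type u} [Group S] [Finite S] [IsSimpleGroup S] (h : Spor.IsoHN S) : ¬ Dom ({5, 7} : Set ℕ) S := by
  obtain ⟨e⟩ := h
  exact fun hD => nd_all (N := 273030912000000) (s := 5) (t := 7) (a := 6) (b := 1) (M := 2520) (by norm_num) (by norm_num) (by norm_num)
    card (by norm_num) (fun P hP => (cn7 hP).2) (by decide +kernel) (dom_equiv e hD)

open Cfsg.Agent.H438.Fpr.HN in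
theorem no_hn_3_11 {S : Type u} [Group S] [Finite S] [IsSimpleGroup S] (h : Spor.IsoHN S) : ¬ Dom ({3, 11} : Set ℕ) S := by
  obtain ⟨e⟩ := h
  exact fun hD => nd_all (N := 273030912000000) (s := 3) (t := 11) (a := 6) (b := 0) (M := 220) (by norm_num) (by norm_num) (by norm_num)
    card (by norm_num) (fun P hP => (cn11 hP).2) (by decide +kernel) (dom_equiv e hD)

end Cfsg.Agent.H180.RM
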